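import Mathlib

/-! # Extending a derivation to the fraction field -/

set_option autoImplicit false
set_option linter.style.haveILetI false

namespace Groth.Agent.Lib.Helper18.Deriv

open TrivSqZeroExt

variable {k A L : Type*} [Field k] [CommRing A] [IsDomain A] [Field L] [Algebra k A]
  [Algebra A L] [Algebra k L] [IsScalarTower k A L] [IsFractionRing A L]

/-- The ring homomorphism `a ↦ a + D a ε` into the dual numbers over the fraction field. -/
noncomputable def dualHom (D : Derivation k A A) : A →+* TrivSqZeroExt L L where
  toFun a := inl (algebraMap A L a) + inr (algebraMap A L (D a))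
  map_one' := by
    ext <;> simp
  map_mul' a b := by
    ext
    · simp
    · simp only [Derivation.leibniz, smul_eq_mul, map_add, map_mul, snd_add, snd_inl, snd_inr,
        zero_add, snd_mul, fst_add, fst_inl, fst_inr, add_zero, MulOpposite.smul_eq_mul_unop,
        MulOpposite.unop_op]
      ring
  map_zero' := by
    ext <;> simp
  map_add' a b := by
    ext
    · simp
    · simp only [map_add, snd_add, snd_inl, snd_inr, zero_add]

theorem dualHom_fst (D : Derivation k A A) (a : A) :
    (dualHom (L := L) D a).fst = algebraMap A L a := by
  simp [dualHom]

theorem dualHom_snd (D : Derivation k A A) (a : A) :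
    (dualHom (L := L) D a).snd = algebraMap A L (D a) := by
  change (inl (algebraMap A L a) + inr (algebraMap A L (D a)) : TrivSqZeroExt L L).snd = _
  rw [snd_add, snd_inl, snd_inr, zero_add]

theorem isUnit_dualHom (D : Derivation k A A) (y : nonZeroDivisors A) :
    IsUnit (dualHom (L := L) D y) := by
  rw [isUnit_iff_isUnit_fst, dualHom_fst]
  exact IsLocalization.map_units L y

/-- The lift to the fraction field. -/
noncomputable def fracHom (D : Derivation k A A) : L →+* TrivSqZeroExt L L :=
  IsLocalization.lift (M := nonZeroDivisors A) (g := dualHom D) (isUnit_dualHom D)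

theorem fracHom_algebraMap (D : Derivation k A A) (a : A) :
    fracHom (L := L) D (algebraMap A L a) = dualHom D a :=
  IsLocalization.lift_eq _ a

theorem fracHom_fst (D : Derivation k A A) (x : L) : (fracHom (A := A) D x).fst = x := by
  have h : (fstHom L L L).toRingHom.comp (fracHom (A := A) D) = RingHom.id L := by
    refine IsLocalization.ringHom_ext (nonZeroDivisors A) ?_
    ext a
    simp only [RingHom.coe_comp, Function.comp_apply, RingHom.id_comp, fracHom_algebraMap]
    exact dualHom_fst D a
  exact congrFun (congrArg DFunLike.coe h) x

/-- **Extension of a derivation to the fraction field.** -/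
theorem exists_derivation_frac (D : Derivation k A A) :
    ∃ D' : Derivation k L L, ∀ a : A, D' (algebraMap A L a) = algebraMap A L (D a) := by
  have hleib : ∀ x y : L, (fracHom (A := A) D (x * y)).snd =
      x • (fracHom (A := A) D y).snd + y • (fracHom (A := A) D x).snd := by
    intro x y
    rw [map_mul, snd_mul, fracHom_fst, fracHom_fst]
    simp only [MulOpposite.smul_eq_mul_unop, MulOpposite.unop_op, smul_eq_mul]
    ring
  have hconst : ∀ c : k, (fracHom (A := A) D (algebraMap k L c)).snd = 0 := by
    intro c
    rw [IsScalarTower.algebraMap_apply k A L, fracHom_algebraMap, dualHom_snd,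
      Derivation.map_algebraMap, map_zero]
  let f : L →ₗ[k] L :=
    { toFun := fun x => (fracHom (A := A) D x).snd
      map_add' := fun x y => by rw [map_add, snd_add]
      map_smul' := fun c x => by
        simp only [RingHom.id_apply]
        rw [Algebra.smul_def, hleib, hconst, smul_zero, add_zero, smul_eq_mul,
          Algebra.smul_def] }
  refine ⟨Derivation.mk' f (fun x y => hleib x y), fun a => ?_⟩
  change (fracHom (A := A) D (algebraMap A L a)).snd = _
  rw [fracHom_algebraMap, dualHom_snd]

end Groth.Agent.Lib.Helper18.Deriv
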