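import Groth.Agent.Lib.Helper18.Deriv.Frac
import Groth.Agent.Lib.Helper18.FF.FiniteExt

/-! # A derivation of a function field of characteristic zero -/

set_option autoImplicit false
set_option linter.style.haveILetI false

namespace Groth.Agent.Lib.Helper18.Deriv

open FunFld Groth.Agent.Lib.Helper18.FF IntermediateField

universe u v

variable {k : Type u} {K : Type v} [Field k] [Field K] [Algebra k K]

/-- The derivation `d/dX` of `k(X)`. -/
theorem exists_derivation_ratFunc (k : Type u) [Field k] :
    ∃ D : Derivation k (RatFunc k) (RatFunc k), D RatFunc.X = 1 := by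
  obtain ⟨D, hD⟩ := exists_derivation_frac (k := k) (A := Polynomial k) (L := RatFunc k)
    Polynomial.derivative'
  refine ⟨D, ?_⟩
  rw [← RatFunc.algebraMap_X, hD]
  simp

/-- Transport of a derivation along an algebra isomorphism. -/
theorem exists_derivation_of_algEquiv {F F' : Type*} [Field F] [Field F'] [Algebra k F]
    [Algebra k F'] (e : F ≃ₐ[k] F') (D : Derivation k F F) :
    ∃ D' : Derivation k F' F', ∀ y : F', D' y = e (D (e.symm y)) := by
  let f : F' →ₗ[k] F' := e.toLinearMap ∘ₗ D.toLinearMap ∘ₗ e.symm.toLinearMap
  refine ⟨Derivation.mk' f (fun a b => ?_), fun y => rfl⟩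
  change e (D (e.symm (a * b))) = a • e (D (e.symm b)) + b • e (D (e.symm a))
  rw [map_mul, Derivation.leibniz, map_add, smul_eq_mul, smul_eq_mul, map_mul, map_mul,
    AlgEquiv.apply_symm_apply, AlgEquiv.apply_symm_apply, smul_eq_mul, smul_eq_mul]

/-- **A derivation of a function field with `D x = 1`.** -/
theorem exists_derivation_funFld [CharZero k] (hK : IsFunctionField k K) {x : K}
    (hx : Transcendental k x) : ∃ D : Derivation k K K, D x = 1 := by
  obtain ⟨D₀, hD₀⟩ := exists_derivation_ratFunc k
  obtain ⟨DF, hDF⟩ := exists_derivation_of_algEquiv (RatFunc.algEquivOfTranscendental x hx) D₀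
  haveI : CharZero (IntermediateField.adjoin k ({x} : Set K)) :=
    charZero_of_injective_algebraMap
      (algebraMap k (IntermediateField.adjoin k ({x} : Set K))).injective
  haveI := finiteDimensional_adjoin_of_transcendental hK hx
  letI : Differential (IntermediateField.adjoin k ({x} : Set K)) := ⟨DF.restrictScalars ℤ⟩
  letI : Differential K :=
    Differential.differentialFiniteDimensional (IntermediateField.adjoin k ({x} : Set K)) K
  haveI : DifferentialAlgebra (IntermediateField.adjoin k ({x} : Set K)) K :=
    Differential.differentialAlgebraFiniteDimensional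
  have hFK : ∀ a : IntermediateField.adjoin k ({x} : Set K),
      (Differential.deriv (R := K)) (algebraMap _ K a) = algebraMap _ K (DF a) := fun a =>
    DifferentialAlgebra.deriv_algebraMap a
  have hconst : ∀ c : k, (Differential.deriv (R := K)) (algebraMap k K c) = 0 := by
    intro c
    rw [IsScalarTower.algebraMap_apply k (IntermediateField.adjoin k ({x} : Set K)) K, hFK,
      Derivation.map_algebraMap, map_zero]
  let f : K →ₗ[k] K :=
    { toFun := fun y => (Differential.deriv (R := K)) y
      map_add' := fun a b => map_add _ a b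
      map_smul' := fun c y => by
        simp only [RingHom.id_apply]
        rw [Algebra.smul_def, Derivation.leibniz, hconst, smul_zero, add_zero, smul_eq_mul,
          Algebra.smul_def] }
  refine ⟨Derivation.mk' f (fun a b => Derivation.leibniz _ a b), ?_⟩
  change (Differential.deriv (R := K)) x = 1
  have hx' : x = algebraMap (IntermediateField.adjoin k ({x} : Set K)) K
      (AdjoinSimple.gen k x) := rfl
  rw [hx', hFK, hDF, RatFunc.algEquivOfTranscendental_symm_gen, hD₀, map_one, map_one]

/-- A derivation killing `z` kills `k(z)`. -/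
theorem deriv_eq_zero_of_mem_adjoin (D : Derivation k K K) {z : K} (hz : D z = 0) {a : K}
    (ha : a ∈ IntermediateField.adjoin k ({z} : Set K)) : D a = 0 := by
  obtain ⟨r, s, rfl⟩ := (IntermediateField.mem_adjoin_simple_iff k a).mp ha
  rw [Derivation.leibniz_div, Derivation.map_aeval, Derivation.map_aeval, hz, smul_zero,
    smul_zero, smul_zero, smul_zero, sub_zero, smul_zero]

/-- **The constants of a nonzero derivation of a function field of characteristic zero.** -/
theorem mem_range_of_deriv_eq_zero [CharZero k] (hK : IsFunctionField k K)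
    (D : Derivation k K K) (hD : ∃ y, D y ≠ 0) {z : K} (hz : D z = 0) :
    z ∈ Set.range (algebraMap k K) := by
  by_contra hzk
  have hzt : Transcendental k z := transcendental_of_not_mem hK hzk
  haveI : CharZero (IntermediateField.adjoin k ({z} : Set K)) :=
    charZero_of_injective_algebraMap
      (algebraMap k (IntermediateField.adjoin k ({z} : Set K))).injective
  haveI := finiteDimensional_adjoin_of_transcendental hK hzt
  letI dF : Differential (IntermediateField.adjoin k ({z} : Set K)) := ⟨0⟩
  let d₁ : Differential K := ⟨D.restrictScalars ℤ⟩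
  let d₂ : Differential K := ⟨0⟩
  have h₁ : @DifferentialAlgebra (IntermediateField.adjoin k ({z} : Set K)) K _ _ _ dF d₁ := by
    refine @DifferentialAlgebra.mk _ _ _ _ _ dF d₁ (fun a => ?_)
    change D (a : K) = algebraMap _ K 0
    rw [map_zero]
    exact deriv_eq_zero_of_mem_adjoin D hz a.2
  have h₂ : @DifferentialAlgebra (IntermediateField.adjoin k ({z} : Set K)) K _ _ _ dF d₂ := by
    refine @DifferentialAlgebra.mk _ _ _ _ _ dF d₂ (fun a => ?_)
    change (0 : K) = algebraMap _ K 0
    rw [map_zero]
  have huniq := (Differential.uniqueDifferentialAlgebraFiniteDimensional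
    (F := IntermediateField.adjoin k ({z} : Set K)) (K := K)).uniq
  have h12 : (⟨d₁, h₁⟩ : {a : Differential K //
      @DifferentialAlgebra (IntermediateField.adjoin k ({z} : Set K)) K _ _ _ dF a}) =
      ⟨d₂, h₂⟩ := (huniq ⟨d₁, h₁⟩).trans (huniq ⟨d₂, h₂⟩).symm
  have h12' : d₁ = d₂ := congrArg Subtype.val h12
  obtain ⟨y, hy⟩ := hD
  apply hy
  have := congrArg (fun d : Differential K => @Differential.deriv K _ d y) h12'
  exact this

end Groth.Agent.Lib.Helper18.Deriv
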