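import Groth.Agent.Lib.Helper18.Deriv.Wronskian
import Groth.Agent.Lib.Helper18.FF.Approx

/-! # Local behaviour of a regular derivation and of the Wronskian -/

set_option autoImplicit false
set_option linter.style.haveILetI false

namespace Groth.Agent.Lib.Helper18.Deriv

open FunFld WithZero Groth.Agent.Lib.Helper18.FF

universe u v

variable {k : Type u} {K : Type v} [Field k] [Field K] [Algebra k K]

theorem val_natCast_le (P : Place k K) (n : ℕ) : P.1 (n : K) ≤ 1 := by
  have : (n : K) = algebraMap k K (n : k) := by simp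
  rw [this]
  exact val_algebraMap_le P _

/-- A derivation preserving the valuation ring lowers orders by at most one. -/
theorem val_deriv_le (P : Place k K) (D : Derivation k K K)
    (hDO : ∀ z : K, P.1 z ≤ 1 → P.1 (D z) ≤ 1) (n : ℕ) {z : K}
    (hz : P.1 z ≤ exp (-((n : ℤ) + 1))) : P.1 (D z) ≤ exp (-(n : ℤ)) := by
  obtain ⟨t, ht⟩ := exists_uniformizer P
  have ht0 : t ≠ 0 := by
    rintro rfl
    rw [map_zero] at ht
    exact exp_ne_zero ht.symm
  have htn : ∀ m : ℕ, P.1 (t ^ m) = exp (-(m : ℤ)) := by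
    intro m
    rw [map_pow, ht, ← exp_nsmul]
    congr 1
    simp
  obtain ⟨w, hw⟩ : ∃ w : K, w = z / t ^ (n + 1) := ⟨_, rfl⟩
  have hwle : P.1 w ≤ 1 := by
    rw [hw, map_div₀, htn]
    rw [div_le_iff₀ (zero_lt_iff.mpr exp_ne_zero), one_mul]
    push_cast
    exact hz
  have hzw : z = t ^ (n + 1) * w := by
    rw [hw]
    field_simp
  have hDz : D z = ((n + 1 : ℕ) : K) * (t ^ n * (D t * w)) + t ^ (n + 1) * D w := by
    rw [hzw, Derivation.leibniz, Derivation.leibniz_pow]
    simp only [smul_eq_mul, Nat.add_sub_cancel, nsmul_eq_mul]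
    ring
  rw [hDz]
  refine (Valuation.map_add _ _ _).trans (max_le ?_ ?_)
  · rw [map_mul, map_mul, map_mul, htn]
    have h1 := val_natCast_le P (n + 1)
    have h2 : P.1 (D t) ≤ 1 := hDO t (by rw [ht, ← exp_zero, exp_le_exp]; norm_num)
    calc P.1 ((n + 1 : ℕ) : K) * (exp (-(n : ℤ)) * (P.1 (D t) * P.1 w))
        ≤ 1 * (exp (-(n : ℤ)) * (1 * 1)) :=
          mul_le_mul' h1 (mul_le_mul' le_rfl (mul_le_mul' h2 hwle))
      _ = exp (-(n : ℤ)) := by rw [one_mul, mul_one, mul_one]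
  · rw [map_mul, htn]
    calc exp (-((n + 1 : ℕ) : ℤ)) * P.1 (D w) ≤ exp (-((n + 1 : ℕ) : ℤ)) * 1 :=
          mul_le_mul' le_rfl (hDO w hwle)
      _ = exp (-((n + 1 : ℕ) : ℤ)) := mul_one _
      _ ≤ exp (-(n : ℤ)) := by
        rw [exp_le_exp]
        push_cast
        omega

theorem val_iterate_deriv_le_one (P : Place k K) (D : Derivation k K K)
    (hDO : ∀ z : K, P.1 z ≤ 1 → P.1 (D z) ≤ 1) (i : ℕ) {z : K} (hz : P.1 z ≤ 1) :
    P.1 ((⇑D)^[i] z) ≤ 1 := by
  induction i with
  | zero => exact hz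
  | succ i ih =>
    rw [Function.iterate_succ_apply']
    exact hDO _ ih

theorem val_iterate_deriv_le (P : Place k K) (D : Derivation k K K)
    (hDO : ∀ z : K, P.1 z ≤ 1 → P.1 (D z) ≤ 1) (r : ℕ) {z : K}
    (hz : P.1 z ≤ exp (-(r : ℤ))) (i : ℕ) (hi : i ≤ r) :
    P.1 ((⇑D)^[i] z) ≤ exp (-((r - i : ℕ) : ℤ)) := by
  induction i with
  | zero => exact hz
  | succ i ih =>
    rw [Function.iterate_succ_apply']
    have h1 := ih (by omega)
    obtain ⟨m, hm⟩ : ∃ m : ℕ, r - i = m + 1 := ⟨r - i - 1, by omega⟩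
    have h2 : r - (i + 1) = m := by omega
    rw [hm] at h1
    rw [h2]
    push_cast at h1
    exact val_deriv_le P D hDO m h1

/-- Determinants and adjugates of matrices with integral entries are integral. -/
theorem val_det_le_one {Γ : Type*} [LinearOrderedCommGroupWithZero Γ] (v : Valuation K Γ) {r : ℕ}
    (M : Matrix (Fin r) (Fin r) K) (hM : ∀ i j, v (M i j) ≤ 1) :
    v M.det ≤ 1 ∧ ∀ i j, v (M.adjugate i j) ≤ 1 := by
  let N : Matrix (Fin r) (Fin r) v.valuationSubring :=
    Matrix.of fun i j => ⟨M i j, (Valuation.mem_valuationSubring_iff v _).mpr (hM i j)⟩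
  have hNM : v.valuationSubring.subtype.mapMatrix N = M := by
    ext i j
    rfl
  constructor
  · rw [← hNM, ← RingHom.map_det]
    exact (Valuation.mem_valuationSubring_iff v _).mp (N.det).2
  · intro i j
    rw [← hNM, ← RingHom.map_adjugate]
    exact (Valuation.mem_valuationSubring_iff v _).mp (N.adjugate i j).2

/-- If some nonzero combination of `f` vanishes to order `≥ r` at a place where the derivation
is regular, the Wronskian vanishes there. -/
theorem val_det_wrMatrix_lt_one (P : Place k K) (D : Derivation k K K)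
    (hDO : ∀ z : K, P.1 z ≤ 1 → P.1 (D z) ≤ 1) {r : ℕ} (f : Fin r → K)
    (hf : ∀ j, P.1 (f j) ≤ 1) (c : Fin r → k) (hc : c ≠ 0)
    (hg : P.1 (∑ j, c j • f j) ≤ exp (-(r : ℤ))) : P.1 (wrMatrix D f).det < 1 := by
  classical
  obtain ⟨g, hgdef⟩ : ∃ g : K, g = ∑ j, c j • f j := ⟨_, rfl⟩
  rw [← hgdef] at hg
  have hMle : ∀ i j, P.1 (wrMatrix D f i j) ≤ 1 := fun i j =>
    val_iterate_deriv_le_one P D hDO _ (hf j)
  obtain ⟨-, hadj⟩ := val_det_le_one P.1 (wrMatrix D f) hMle
  have hiter : ∀ i : ℕ, (⇑D)^[i] g = ∑ j, c j • (⇑D)^[i] (f j) := by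
    intro i
    induction i with
    | zero => simpa using hgdef
    | succ i ih =>
      rw [Function.iterate_succ_apply', ih, map_sum]
      refine Finset.sum_congr rfl fun j _ => ?_
      rw [D.map_smul, Function.iterate_succ_apply']
  have hmul : (wrMatrix D f).mulVec (fun j => algebraMap k K (c j)) =
      fun i : Fin r => (⇑D)^[(i : ℕ)] g := by
    funext i
    rw [hiter]
    simp only [Matrix.mulVec, dotProduct, wrMatrix_apply]
    refine Finset.sum_congr rfl fun j _ => ?_
    rw [Algebra.smul_def, mul_comm]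
  have hcram : (wrMatrix D f).det • (fun j => algebraMap k K (c j)) =
      (wrMatrix D f).adjugate.mulVec (fun i : Fin r => (⇑D)^[(i : ℕ)] g) := by
    rw [← hmul, Matrix.mulVec_mulVec, Matrix.adjugate_mul, Matrix.smul_mulVec, Matrix.one_mulVec]
  obtain ⟨j₀, hj₀⟩ : ∃ j, c j ≠ 0 := by
    by_contra hcon
    push Not at hcon
    exact hc (funext hcon)
  have h1 := congrFun hcram j₀
  simp only [Pi.smul_apply, smul_eq_mul, Matrix.mulVec, dotProduct] at h1
  have h2 : P.1 ((wrMatrix D f).det * algebraMap k K (c j₀)) < 1 := by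
    rw [h1]
    refine Valuation.map_sum_lt P.1 one_ne_zero (fun i _ => ?_)
    rw [map_mul]
    have ha := hadj j₀ i
    have hb := val_iterate_deriv_le P D hDO r hg (i : ℕ) (le_of_lt i.2)
    have hb' : P.1 ((⇑D)^[(i : ℕ)] g) < 1 := by
      refine lt_of_le_of_lt hb ?_
      rw [← exp_zero, exp_lt_exp]
      have := i.2
      omega
    calc P.1 ((wrMatrix D f).adjugate j₀ i) * P.1 ((⇑D)^[(i : ℕ)] g)
        ≤ 1 * P.1 ((⇑D)^[(i : ℕ)] g) := mul_le_mul' ha le_rfl
      _ = P.1 ((⇑D)^[(i : ℕ)] g) := one_mul _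
      _ < 1 := hb'
  rw [map_mul, val_algebraMap P hj₀, mul_one] at h2
  exact h2

end Groth.Agent.Lib.Helper18.Deriv
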