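import Groth.Agent.Lib.Helper18.Deriv.FunFld
import Groth.Agent.Lib.Helper18.FF.Semilocal
import Groth.Agent.Lib.Helper18.FF.ProjMap

/-! # A derivation of a function field is regular at almost all places -/

set_option autoImplicit false
set_option linter.style.haveILetI false

namespace Groth.Agent.Lib.Helper18.Deriv

open FunFld WithZero Groth.Agent.Lib.Helper18.FF

universe u v

variable {k : Type u} {K : Type v} [Field k] [Field K] [Algebra k K]

theorem val_le_one_of_mem_adjoin_singleton (Q : Place k K) {x : K} (hx : Q.1 x ≤ 1) {a : K}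
    (ha : a ∈ Algebra.adjoin k ({x} : Set K)) : Q.1 a ≤ 1 := by
  induction ha using Algebra.adjoin_induction with
  | mem y hy =>
    rw [Set.mem_singleton_iff] at hy
    rw [hy]
    exact hx
  | algebraMap c => exact val_algebraMap_le Q c
  | add a b _ _ iha ihb => exact (Valuation.map_add _ _ _).trans (max_le iha ihb)
  | mul a b _ _ iha ihb =>
    rw [map_mul]
    exact mul_le_one' iha ihb

theorem deriv_mem_adjoin_singleton {x : K} (D : Derivation k K K) (hDx : D x = 1) {a : K}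
    (ha : a ∈ Algebra.adjoin k ({x} : Set K)) : D a ∈ Algebra.adjoin k ({x} : Set K) := by
  induction ha using Algebra.adjoin_induction with
  | mem y hy =>
    rw [Set.mem_singleton_iff] at hy
    rw [hy, hDx]
    exact Subalgebra.one_mem _
  | algebraMap c =>
    rw [D.map_algebraMap]
    exact Subalgebra.zero_mem _
  | add a b _ _ iha ihb =>
    rw [map_add]
    exact Subalgebra.add_mem _ iha ihb
  | mul a b ha hb iha ihb =>
    rw [D.leibniz, smul_eq_mul, smul_eq_mul]
    exact Subalgebra.add_mem _ (Subalgebra.mul_mem _ ha ihb) (Subalgebra.mul_mem _ hb iha)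

/-- **A derivation with `D x = 1` preserves the valuation rings of almost all places.** -/
theorem exists_finite_regular (hK : IsFunctionField k K) {x : K} (hx : Transcendental k x)
    (D : Derivation k K K) (hDx : D x = 1) :
    ∃ S : Set (Place k K), S.Finite ∧ ∀ Q, Q ∉ S → ∀ z : K, Q.1 z ≤ 1 → Q.1 (D z) ≤ 1 := by
  classical
  obtain ⟨E, hEdef⟩ : ∃ E : Divisor k K, E = poleDiv x := ⟨_, rfl⟩
  have hx0 : x ≠ 0 := by
    rintro rfl
    exact hx ⟨Polynomial.X, Polynomial.X_ne_zero, by simp⟩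
  have hE : 0 ≤ E := hEdef ▸ poleDiv_nonneg x
  have hEdeg : 1 ≤ E.deg := by
    rw [hEdef, deg_poleDiv_eq hK hx]
    haveI := finiteDimensional_adjoin_of_transcendental hK hx
    have : 0 < Module.finrank (IntermediateField.adjoin k ({x} : Set K)) K := Module.finrank_pos
    exact_mod_cast this
  have hxE : x ∈ L E := by
    have := pow_mem_L_nsmul_poleDiv hK x (le_refl 1)
    rwa [pow_one, one_smul, ← hEdef] at this
  have hxdiv : ∀ R, 0 < E R → (FunFld.div k x) R = - E R := by
    intro R hR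
    rw [hEdef, poleDiv_apply hK] at hR ⊢
    rw [div_apply hK]
    omega
  obtain ⟨r, b, hb⟩ := exists_generators hK (Algebra.adjoin k ({x} : Set K)) hE hEdeg
    (Algebra.subset_adjoin rfl) hx0 hxE hxdiv
  have hfin : ∀ y : K, {Q : Place k K | 1 < Q.1 y}.Finite := by
    intro y
    rcases eq_or_ne y 0 with rfl | hy
    · have : {Q : Place k K | 1 < Q.1 (0 : K)} = ∅ := by
        ext Q
        simp
      rw [this]
      exact Set.finite_empty
    · exact (finite_val_ne_one hK hy).subset (fun Q hQ => ne_of_gt hQ)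
  refine ⟨{Q | 1 < Q.1 x} ∪ (⋃ j, {Q | 1 < Q.1 (b j)}) ∪ (⋃ j, {Q | 1 < Q.1 (D (b j))}),
    ((hfin x).union (Set.finite_iUnion fun j => hfin (b j))).union
      (Set.finite_iUnion fun j => hfin (D (b j))), ?_⟩
  intro Q hQ z hz
  have hQx : Q.1 x ≤ 1 := by
    by_contra h
    exact hQ (Or.inl (Or.inl (not_le.mp h)))
  have hQb : ∀ j, Q.1 (b j) ≤ 1 := by
    intro j
    by_contra h
    exact hQ (Or.inl (Or.inr (Set.mem_iUnion.mpr ⟨j, not_le.mp h⟩)))
  have hQDb : ∀ j, Q.1 (D (b j)) ≤ 1 := by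
    intro j
    by_contra h
    exact hQ (Or.inr (Set.mem_iUnion.mpr ⟨j, not_le.mp h⟩))
  have key : ∀ a : Fin r → Algebra.adjoin k ({x} : Set K),
      Q.1 (D (∑ j, (a j : K) * b j)) ≤ 1 := by
    intro a
    rw [map_sum]
    refine Valuation.map_sum_le _ (fun j _ => ?_)
    rw [D.leibniz, smul_eq_mul, smul_eq_mul]
    refine (Valuation.map_add _ _ _).trans (max_le ?_ ?_)
    · rw [map_mul]
      exact mul_le_one' (val_le_one_of_mem_adjoin_singleton Q hQx (a j).2) (hQDb j)
    · rw [map_mul]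
      exact mul_le_one' (hQb j)
        (val_le_one_of_mem_adjoin_singleton Q hQx (deriv_mem_adjoin_singleton D hDx (a j).2))
  rcases eq_or_ne z 0 with rfl | hz0
  · rw [map_zero, map_zero]
    exact zero_le'
  obtain ⟨Z, hZdef⟩ : ∃ Z : Divisor k K, Z = poleDiv z := ⟨_, rfl⟩
  have hZ : 0 ≤ Z := hZdef ▸ poleDiv_nonneg z
  obtain ⟨n, hn⟩ : ∃ n : ℕ, 2 * (genus k K : ℤ) + Q.deg + Z.deg ≤ n * E.deg := by
    refine ⟨(2 * (genus k K : ℤ) + Q.deg + Z.deg).toNat, ?_⟩
    have h1 : 2 * (genus k K : ℤ) + Q.deg + Z.deg ≤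
        ((2 * (genus k K : ℤ) + Q.deg + Z.deg).toNat : ℤ) := Int.self_le_toNat _
    have h2 : (0 : ℤ) ≤ ((2 * (genus k K : ℤ) + Q.deg + Z.deg).toNat : ℤ) := Int.natCast_nonneg _
    nlinarith
  obtain ⟨F, hFdef⟩ : ∃ F : Divisor k K, F = n • E - Z := ⟨_, rfl⟩
  have hEQ : E Q = 0 := by
    rw [hEdef, poleDiv_apply hK]
    have : 0 ≤ Q.ord x := (val_le_one_iff_ord_nonneg Q hx0).mp hQx
    omega
  have hZQ : Z Q = 0 := by
    rw [hZdef, poleDiv_apply hK]
    have : 0 ≤ Q.ord z := (val_le_one_iff_ord_nonneg Q hz0).mp hz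
    omega
  have hFQ : F Q = 0 := by
    rw [hFdef, Finsupp.sub_apply, Finsupp.smul_apply, hEQ, hZQ]
    simp
  have hFdeg : F.deg = n * E.deg - Z.deg := by
    rw [hFdef, deg_sub, deg_nsmul]
  have hQdeg : (1 : ℤ) ≤ (Q.deg : ℤ) := by exact_mod_cast deg_pos hK Q
  have hg0 : (0 : ℤ) ≤ genus k K := Int.natCast_nonneg _
  have hell : ell (F - Finsupp.single Q 1) < ell F := by
    have h1 := ell_eq_of_deg_ge hK F (by rw [hFdeg]; linarith)
    have h2 := ell_eq_of_deg_ge hK (F - Finsupp.single Q 1) (by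
      rw [deg_sub, deg_single, hFdeg]; linarith)
    rw [deg_sub, deg_single] at h2
    have : (ell (F - Finsupp.single Q 1) : ℤ) < ell F := by
      rw [h1, h2]
      linarith
    exact_mod_cast this
  obtain ⟨σ, hσF, hσ0, hσQ⟩ := exists_section_val hK Q hell
  rw [hFQ, exp_zero] at hσQ
  have hσE : σ ∈ L (n • E) := by
    refine L_mono ?_ hσF
    intro P
    rw [hFdef, Finsupp.sub_apply]
    have := hZ P
    rw [Finsupp.zero_apply] at this
    omega
  have hσzE : σ * z ∈ L (n • E) := by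
    intro P
    rw [map_mul]
    have h1 : P.1 σ ≤ exp (F P) := hσF P
    have h2 : P.1 z ≤ exp (Z P) := by
      rw [hZdef]
      exact val_le_exp_poleDiv hK z P
    calc P.1 σ * P.1 z ≤ exp (F P) * exp (Z P) := mul_le_mul' h1 h2
      _ = exp ((n • E) P) := by
        rw [← exp_add, hFdef, Finsupp.sub_apply]
        congr 1
        ring
  obtain ⟨a, ha⟩ := hb n σ hσE
  obtain ⟨a', ha'⟩ := hb n (σ * z) hσzE
  have hDσ : Q.1 (D σ) ≤ 1 := by
    rw [ha]
    exact key a
  have hDσz : Q.1 (D (σ * z)) ≤ 1 := by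
    rw [ha']
    exact key a'
  have hD : D z = (D (σ * z) - z * D σ) / σ := by
    rw [D.leibniz, smul_eq_mul, smul_eq_mul]
    field_simp
    ring
  rw [hD, map_div₀, hσQ, _root_.div_one]
  refine (Valuation.map_sub _ _ _).trans (max_le hDσz ?_)
  rw [map_mul]
  exact mul_le_one' hz hDσ

end Groth.Agent.Lib.Helper18.Deriv
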