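import Groth.Agent.Lib.Helper18.Deriv.Local
import Groth.Agent.Lib.Helper18.Deriv.Regular
import Groth.Agent.Lib.Helper18.FF.Torsion

/-! # Finiteness of torsion places of bounded order in genus one (characteristic zero) -/

set_option autoImplicit false
set_option linter.style.haveILetI false

namespace Groth.Agent.Lib.Helper18.Deriv

open FunFld WithZero Groth.Agent.Lib.Helper18.FF

universe u v

variable {k : Type u} {K : Type v} [Field k] [Field K] [Algebra k K]

/-- In genus one and characteristic zero, only finitely many places `Q` have `m (Q - P)`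
principal, for given `m ≥ 1`: such `Q` are zeros of the Wronskian of `L(mP)`. -/
theorem finite_torsion_places [IsAlgClosed k] [CharZero k] (hK : IsFunctionField k K)
    (hg1 : genus k K = 1) (P : Place k K) (m : ℕ) (hm : 1 ≤ m) :
    {Q : Place k K | Q ≠ P ∧ ∃ h : K, h ≠ 0 ∧
      FunFld.div k h = Finsupp.single Q (m : ℤ) - Finsupp.single P (m : ℤ)}.Finite := by
  classical
  obtain ⟨x, hx, -⟩ := hK.1
  obtain ⟨D, hDx⟩ := exists_derivation_funFld hK hx
  obtain ⟨S, hSfin, hS⟩ := exists_finite_regular hK hx D hDx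
  have hconst : ∀ z : K, D z = 0 → z ∈ Set.range (algebraMap k K) := fun z hz =>
    mem_range_of_deriv_eq_zero hK D ⟨x, by rw [hDx]; exact one_ne_zero⟩ hz
  obtain ⟨M, hM⟩ : ∃ M : Divisor k K, M = Finsupp.single P (m : ℤ) := ⟨_, rfl⟩
  have hPdeg : P.deg = 1 := deg_eq_one_of_isAlgClosed hK P
  have hMdeg : M.deg = m := by
    rw [hM, deg_single, hPdeg]
    simp
  have hell : ell M = m := by
    have h1 := ell_eq_of_deg_ge hK M (by
      rw [hMdeg, hg1]
      push_cast
      omega)
    rw [hMdeg, hg1] at h1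
    push_cast at h1
    omega
  haveI := finiteDimensional_L hK M
  let bb : Module.Basis (Fin m) k (L M) := (Module.finBasis k (L M)).reindex (finCongr hell)
  obtain ⟨f, hf⟩ : ∃ f : Fin m → K, ∀ j, f j = (bb j : K) := ⟨_, fun _ => rfl⟩
  have hfli : LinearIndependent k f := by
    have h1 : LinearIndependent k (fun j => (bb j : K)) :=
      bb.linearIndependent.map' (Submodule.subtype _) (Submodule.ker_subtype _)
    have h2 : f = fun j => (bb j : K) := funext hf
    rw [h2]
    exact h1
  have hW : (wrMatrix D f).det ≠ 0 := fun h =>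
    not_linearIndependent_of_det_wrMatrix_eq_zero D hconst m f h hfli
  refine (hSfin.union (finite_val_ne_one hK hW)).subset ?_
  rintro Q ⟨hQP, h, hh0, hdiv⟩
  by_cases hQS : Q ∈ S
  · exact Or.inl hQS
  right
  show Q.1 _ ≠ 1
  refine ne_of_lt ?_
  have hhM : h ∈ L M := by
    rw [mem_L_iff_div hK M hh0, hdiv, hM]
    intro R
    rw [Finsupp.zero_apply, Finsupp.add_apply, Finsupp.sub_apply]
    have : (0 : ℤ) ≤ (Finsupp.single Q (m : ℤ) : Divisor k K) R := by
      rw [Finsupp.single_apply]
      split_ifs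
      · exact Int.natCast_nonneg _
      · exact le_rfl
    omega
  obtain ⟨c, hc⟩ : ∃ c : Fin m → k, h = ∑ j, c j • f j := by
    refine ⟨fun j => bb.repr ⟨h, hhM⟩ j, ?_⟩
    have h6 := congrArg Subtype.val (bb.sum_repr ⟨h, hhM⟩)
    rw [Submodule.coe_sum] at h6
    simp only [Submodule.coe_smul] at h6
    refine h6.symm.trans ?_
    exact Finset.sum_congr rfl fun j _ => by rw [hf]
  have hc0 : c ≠ 0 := by
    rintro rfl
    apply hh0
    rw [hc]
    simp
  have hfQ : ∀ j, Q.1 (f j) ≤ 1 := by
    intro j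
    have h1 : Q.1 (bb j : K) ≤ exp (M Q) := (bb j).2 Q
    have h2 : M Q = 0 := by rw [hM, Finsupp.single_eq_of_ne hQP]
    rw [h2, exp_zero] at h1
    rw [hf]
    exact h1
  have hQh : Q.1 h ≤ exp (-(m : ℤ)) := by
    rw [val_eq_exp_neg_ord Q hh0, exp_le_exp]
    have h1 := congrArg (fun d : Divisor k K => d Q) hdiv
    simp only [Finsupp.sub_apply] at h1
    rw [div_apply hK, Finsupp.single_eq_same, Finsupp.single_eq_of_ne hQP] at h1
    omega
  exact val_det_wrMatrix_lt_one Q D (hS Q hQS) f hfQ c hc0 (by rw [← hc]; exact hQh)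

end Groth.Agent.Lib.Helper18.Deriv
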