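import Mathlib

/-! # The Wronskian criterion for linear independence over the constants -/

set_option autoImplicit false
set_option linter.style.haveILetI false

namespace Groth.Agent.Lib.Helper18.Deriv

variable {k K : Type*} [Field k] [Field K] [Algebra k K]

/-- The Wronskian matrix `(D^i f_j)`. -/
noncomputable def wrMatrix (D : Derivation k K K) {r : ℕ} (f : Fin r → K) :
    Matrix (Fin r) (Fin r) K :=
  Matrix.of fun i j => (⇑D)^[(i : ℕ)] (f j)

theorem wrMatrix_apply (D : Derivation k K K) {r : ℕ} (f : Fin r → K) (i j : Fin r) :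
    wrMatrix D f i j = (⇑D)^[(i : ℕ)] (f j) := rfl

/-- **Wronskian criterion.** If the Wronskian vanishes, the functions are linearly dependent
over the field of constants. -/
theorem not_linearIndependent_of_det_wrMatrix_eq_zero (D : Derivation k K K)
    (hconst : ∀ z : K, D z = 0 → z ∈ Set.range (algebraMap k K)) :
    ∀ (r : ℕ) (f : Fin r → K), (wrMatrix D f).det = 0 → ¬ LinearIndependent k f := by
  intro r
  induction r with
  | zero =>
    intro f h
    rw [Matrix.det_isEmpty] at h
    exact absurd h one_ne_zero
  | succ r ih =>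
    intro f hdet hli
    obtain ⟨f', hf'⟩ : ∃ f' : Fin r → K, f' = fun j => f j.castSucc := ⟨_, rfl⟩
    have hli' : LinearIndependent k f' := by
      rw [hf']
      exact hli.comp _ (Fin.castSucc_injective r)
    have hdet' : (wrMatrix D f').det ≠ 0 := fun h => ih f' h hli'
    obtain ⟨a, ha0, ha⟩ := Matrix.exists_mulVec_eq_zero_iff.mpr hdet
    have hrow : ∀ i : Fin (r + 1), ∑ j : Fin (r + 1), (⇑D)^[(i : ℕ)] (f j) * a j = 0 := by
      intro i
      have := congrFun ha i
      simpa [Matrix.mulVec, dotProduct, wrMatrix_apply] using this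
    -- the last coefficient is nonzero
    have hlast : a (Fin.last r) ≠ 0 := by
      intro h0
      have ha' : (wrMatrix D f').mulVec (fun j => a j.castSucc) = 0 := by
        funext i
        have := hrow i.castSucc
        rw [Fin.sum_univ_castSucc, h0, mul_zero, add_zero] at this
        simp only [Matrix.mulVec, dotProduct, wrMatrix_apply, Pi.zero_apply, hf']
        exact this
      have hz := Matrix.eq_zero_of_mulVec_eq_zero hdet' ha'
      apply ha0
      funext j
      refine Fin.lastCases h0 (fun j' => ?_) j
      exact congrFun hz j'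
    -- normalize
    obtain ⟨b, hb⟩ : ∃ b : Fin (r + 1) → K, b = fun j => a j / a (Fin.last r) := ⟨_, rfl⟩
    have hblast : b (Fin.last r) = 1 := by rw [hb]; exact div_self hlast
    have hrowb : ∀ i : Fin (r + 1), ∑ j : Fin (r + 1), (⇑D)^[(i : ℕ)] (f j) * b j = 0 := by
      intro i
      have h1 : ∑ j : Fin (r + 1), (⇑D)^[(i : ℕ)] (f j) * b j =
          (∑ j : Fin (r + 1), (⇑D)^[(i : ℕ)] (f j) * a j) / a (Fin.last r) := by
        rw [Finset.sum_div]
        refine Finset.sum_congr rfl fun j _ => ?_
        rw [hb, mul_div_assoc]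
      rw [h1, hrow i, zero_div]
    -- differentiate
    have hDb : ∀ i : Fin r, ∑ j : Fin (r + 1), (⇑D)^[(i : ℕ)] (f j) * D (b j) = 0 := by
      intro i
      have h1 := congrArg D (hrowb i.castSucc)
      rw [map_zero, map_sum] at h1
      have h2 : ∀ j : Fin (r + 1), D ((⇑D)^[((i.castSucc : Fin (r + 1)) : ℕ)] (f j) * b j) =
          (⇑D)^[(i : ℕ)] (f j) * D (b j) + (⇑D)^[((i.succ : Fin (r + 1)) : ℕ)] (f j) * b j := by
        intro j
        rw [Derivation.leibniz, smul_eq_mul, smul_eq_mul, Fin.val_castSucc, Fin.val_succ,
          Function.iterate_succ_apply']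
        ring
      rw [Finset.sum_congr rfl (fun j _ => h2 j), Finset.sum_add_distrib, hrowb i.succ,
        add_zero] at h1
      exact h1
    have hDb' : (wrMatrix D f').mulVec (fun j => D (b j.castSucc)) = 0 := by
      funext i
      have := hDb i
      rw [Fin.sum_univ_castSucc, hblast, Derivation.map_one_eq_zero, mul_zero, add_zero] at this
      simp only [Matrix.mulVec, dotProduct, wrMatrix_apply, Pi.zero_apply, hf']
      exact this
    have hz := Matrix.eq_zero_of_mulVec_eq_zero hdet' hDb'
    have hbconst : ∀ j : Fin (r + 1), ∃ c : k, b j = algebraMap k K c := by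
      intro j
      refine Fin.lastCases ⟨1, by rw [hblast, map_one]⟩ (fun j' => ?_) j
      obtain ⟨c, hc⟩ := hconst _ (congrFun hz j')
      exact ⟨c, hc.symm⟩
    choose c hc using hbconst
    have hrel : ∑ j : Fin (r + 1), c j • f j = 0 := by
      have := hrowb 0
      simp only [Fin.val_zero, Function.iterate_zero, id_eq] at this
      rw [← this]
      refine Finset.sum_congr rfl fun j _ => ?_
      rw [hc j, Algebra.smul_def, mul_comm]
    have hc0 := Fintype.linearIndependent_iff.mp hli c hrel (Fin.last r)
    have hc1 : algebraMap k K (c (Fin.last r)) = 1 := by rw [← hc, hblast]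
    rw [hc0, map_zero] at hc1
    exact zero_ne_one hc1

end Groth.Agent.Lib.Helper18.Deriv
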